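import Groth.Agent.TorBridge.LES
import Mathlib

/-!
# Maps killing `Ext^{e+1}` or `Tor_{e+1}`: dimension shifting
-/

set_option autoImplicit false

universe u

open CategoryTheory Limits Abelian MonoidalCategory

namespace Groth.Agent.H1ExtTor

variable {R : Type u} [CommRing R]

/-- Precomposition with `α` kills all `Ext^{e+1}`. -/
def KillExt {X X' : ModuleCat.{u} R} (α : X ⟶ X') (e : ℕ) : Prop :=
  ∀ (N : ModuleCat.{u} R) (x : Ext.{u} X' N (e + 1)), (Ext.mk₀ α).comp x (zero_add _) = 0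

/-- `α` induces zero on all `Tor_{e+1}`. -/
def KillTor {X X' : ModuleCat.{u} R} (α : X ⟶ X') (e : ℕ) : Prop :=
  ∀ N : ModuleCat.{u} R, ((Tor (ModuleCat.{u} R) (e + 1)).map α).app N = 0

theorem killExt_of_factor {X P X' : ModuleCat.{u} R} [Projective P] (g : X ⟶ P) (h : P ⟶ X') (e : ℕ) :
    KillExt (g ≫ h) e := fun N x => by
  rw [← Ext.mk₀_comp_mk₀_assoc, Ext.eq_zero_of_projective ((Ext.mk₀ h).comp x (zero_add _)), Ext.comp_zero]

theorem killTor_of_factor {X P X' : ModuleCat.{u} R} [Module.Flat R P] (g : X ⟶ P) (h : P ⟶ X') (e : ℕ) :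
    KillTor (g ≫ h) e := fun N => by
  rw [Functor.map_comp, NatTrans.comp_app,
    (TorBridge.isZero_tor_succ_of_flat P N e).eq_of_tgt (((Tor (ModuleCat.{u} R) (e + 1)).map g).app N) 0,
    zero_comp]

/-- A map killing `Ext¹` lifts through any surjection from a projective. -/
theorem exists_factor_of_killExt {X X' : ModuleCat.{u} R} (α : X ⟶ X') (S : ShortComplex (ModuleCat.{u} R))
    (hS : S.ShortExact) (e : S.X₃ = X') (h : KillExt α 0) : ∃ g : X ⟶ S.X₂, g ≫ S.g ≫ eqToHom e = α := by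
  subst e
  have h0 : (Ext.mk₀ α).comp hS.extClass (zero_add 1) = 0 := h S.X₁ hS.extClass
  obtain ⟨x, hx⟩ := Ext.covariant_sequence_exact₃ X hS (Ext.mk₀ α) (zero_add 1) h0
  obtain ⟨g, rfl⟩ := (Ext.mk₀_bijective X S.X₂).2 x
  rw [Ext.mk₀_comp_mk₀] at hx
  exact ⟨g, by rw [eqToHom_refl, Category.comp_id]; exact (Ext.mk₀_bijective X S.X₃).1 hx⟩

variable {S S' : ShortComplex (ModuleCat.{u} R)}

/-- Dimension shifting for `Ext`. -/
theorem killExt_succ_iff (hS : S.ShortExact) (hS' : S'.ShortExact) (φ : S ⟶ S') [Projective S.X₂]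
    [Projective S'.X₂] (e : ℕ) : KillExt φ.τ₃ (e + 1) ↔ KillExt φ.τ₁ e := by
  have hsq : ∀ (N : ModuleCat.{u} R) (y : Ext.{u} S'.X₁ N (e + 1)),
      (Ext.mk₀ φ.τ₃).comp (hS'.extClass.comp y (show 1 + (e + 1) = e + 1 + 1 by omega)) (zero_add _) =
        hS.extClass.comp ((Ext.mk₀ φ.τ₁).comp y (zero_add _)) (show 1 + (e + 1) = e + 1 + 1 by omega) := by
    intro N y
    rw [← Ext.comp_assoc (Ext.mk₀ φ.τ₃) hS'.extClass y (zero_add 1) _ (by omega),
      ← ShortComplex.ShortExact.extClass_naturality hS hS' φ,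
      Ext.comp_assoc hS.extClass (Ext.mk₀ φ.τ₁) y (add_zero 1) _ (by omega)]
  constructor
  · intro h N y
    have h1 := (hsq N y).symm.trans (h N _)
    obtain ⟨w, hw⟩ := Ext.contravariant_sequence_exact₁ hS N _ _ h1
    rw [← hw, Ext.eq_zero_of_projective w, Ext.comp_zero]
  · intro h N x
    obtain ⟨y, rfl⟩ := Ext.contravariant_sequence_exact₃ hS' N x (Ext.eq_zero_of_projective _)
      (show 1 + (e + 1) = e + 1 + 1 by omega)
    rw [hsq, h N y, Ext.comp_zero]

section Tor

variable (N : ModuleCat.{u} R) (P : ProjectiveResolution N)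

/-- `X ⊗ P`. -/
noncomputable abbrev cx (X : ModuleCat.{u} R) : ChainComplex (ModuleCat.{u} R) ℕ :=
  ((TorBridge.tenF X).mapHomologicalComplex (ComplexShape.down ℕ)).obj P.complex

/-- `α ⊗ P`. -/
noncomputable abbrev cxMap {X X' : ModuleCat.{u} R} (α : X ⟶ X') : cx N P X ⟶ cx N P X' :=
  (NatTrans.mapHomologicalComplex ((tensoringLeft (ModuleCat.{u} R)).map α) (ComplexShape.down ℕ)).app P.complex

theorem tor_map_eq_zero_iff {X X' : ModuleCat.{u} R} (α : X ⟶ X') (j : ℕ) :
    ((Tor (ModuleCat.{u} R) j).map α).app N = 0 ↔ HomologicalComplex.homologyMap (cxMap N P α) j = 0 := by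
  show (NatTrans.leftDerived ((tensoringLeft (ModuleCat.{u} R)).map α) j).app N = 0 ↔ _
  rw [ProjectiveResolution.leftDerived_app_eq _ P]
  constructor
  · intro h
    have h2 := congrArg (fun f => (P.isoLeftDerivedObj _ j).inv ≫ f ≫ (P.isoLeftDerivedObj _ j).hom) h
    simp only [Category.assoc, Iso.inv_hom_id_assoc, Iso.inv_hom_id, Category.comp_id, zero_comp,
      comp_zero] at h2
    exact h2
  · intro h
    show _ ≫ HomologicalComplex.homologyMap (cxMap N P α) j ≫ _ = 0
    rw [h, zero_comp, comp_zero]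

theorem cxMap_comp {X X' X'' : ModuleCat.{u} R} (α : X ⟶ X') (β : X' ⟶ X'') :
    cxMap N P (α ≫ β) = cxMap N P α ≫ cxMap N P β := by
  refine HomologicalComplex.hom_ext _ _ fun j => ?_
  simp [cxMap]

/-- `S ⊗ P`. -/
noncomputable def tens (hS : S.ShortExact) : ShortComplex (ChainComplex (ModuleCat.{u} R) ℕ) :=
  ShortComplex.mk (cxMap N P S.f) (cxMap N P S.g) (by
    refine HomologicalComplex.hom_ext _ _ fun j => ModuleCat.hom_ext ?_
    show S.g.hom.rTensor (P.complex.X j) ∘ₗ S.f.hom.rTensor (P.complex.X j) = 0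
    rw [← LinearMap.rTensor_comp, ← ModuleCat.hom_comp, S.zero, ModuleCat.hom_zero, LinearMap.rTensor_zero])

theorem tens_shortExact (hS : S.ShortExact) : (tens N P hS).ShortExact := by
  refine HomologicalComplex.shortExact_of_degreewise_shortExact _ fun j => ?_
  haveI : Module.Projective R (P.complex.X j) := (IsProjective.iff_projective _).2 (P.projective j)
  have he : Function.Exact S.f.hom S.g.hom :=
    (ShortComplex.ShortExact.moduleCat_exact_iff_function_exact _).1 hS.exact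
  exact
    { exact := (ShortComplex.ShortExact.moduleCat_exact_iff_function_exact _).2
        (rTensor_exact (P.complex.X j) he ((ModuleCat.epi_iff_surjective _).1 hS.epi_g))
      mono_f := (ModuleCat.mono_iff_injective _).2 (Module.Flat.rTensor_preserves_injective_linearMap
        (M := P.complex.X j) S.f.hom ((ModuleCat.mono_iff_injective _).1 hS.mono_f))
      epi_g := (ModuleCat.epi_iff_surjective _).2
        (LinearMap.rTensor_surjective (P.complex.X j) ((ModuleCat.epi_iff_surjective _).1 hS.epi_g)) }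

/-- Functoriality of `S ⊗ P`. -/
noncomputable def tensMap (hS : S.ShortExact) (hS' : S'.ShortExact) (φ : S ⟶ S') :
    tens N P hS ⟶ tens N P hS' :=
  ShortComplex.homMk (cxMap N P φ.τ₁) (cxMap N P φ.τ₂) (cxMap N P φ.τ₃)
    (show cxMap N P φ.τ₁ ≫ cxMap N P S'.f = cxMap N P S.f ≫ cxMap N P φ.τ₂ by
      rw [← cxMap_comp, ← cxMap_comp, φ.comm₁₂])
    (show cxMap N P φ.τ₂ ≫ cxMap N P S'.g = cxMap N P S.g ≫ cxMap N P φ.τ₃ by
      rw [← cxMap_comp, ← cxMap_comp, φ.comm₂₃])

theorem isIso_δ_tens (hS : S.ShortExact) [Module.Flat R S.X₂] (j : ℕ) :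
    IsIso ((tens_shortExact N P hS).δ (j + 2) (j + 1) rfl) := by
  have hz : ∀ i : ℕ, IsZero ((tens N P hS).X₂.homology (i + 1)) := fun i =>
    (P.isoLeftDerivedObj (TorBridge.tenF S.X₂) (i + 1)).isZero_iff.1 (TorBridge.isZero_tor_succ_of_flat S.X₂ N i)
  exact (tens_shortExact N P hS).isIso_δ (j + 2) (j + 1) rfl (hz (j + 1)) (hz j)

end Tor

/-- Dimension shifting for `Tor`. -/
theorem killTor_succ_iff (hS : S.ShortExact) (hS' : S'.ShortExact) (φ : S ⟶ S') [Module.Flat R S.X₂]
    [Module.Flat R S'.X₂] (e : ℕ) : KillTor φ.τ₃ (e + 1) ↔ KillTor φ.τ₁ e := by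
  refine forall_congr' fun N => ?_
  let P : ProjectiveResolution N := ProjectiveResolution.of _
  rw [tor_map_eq_zero_iff N P, tor_map_eq_zero_iff N P]
  haveI := isIso_δ_tens N P hS e
  haveI := isIso_δ_tens N P hS' e
  have hnat : (tens_shortExact N P hS).δ (e + 2) (e + 1) rfl ≫
      HomologicalComplex.homologyMap (cxMap N P φ.τ₁) (e + 1) =
    HomologicalComplex.homologyMap (cxMap N P φ.τ₃) (e + 2) ≫ (tens_shortExact N P hS').δ (e + 2) (e + 1) rfl :=
    HomologicalComplex.HomologySequence.δ_naturality (tensMap N P hS hS' φ) (tens_shortExact N P hS)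
      (tens_shortExact N P hS') (e + 2) (e + 1) rfl
  constructor
  · intro h
    have h' : HomologicalComplex.homologyMap (cxMap N P φ.τ₃) (e + 2) = 0 := h
    rw [h', zero_comp] at hnat
    exact (cancel_epi ((tens_shortExact N P hS).δ (e + 2) (e + 1) rfl)).1 (hnat.trans comp_zero.symm)
  · intro h
    refine (cancel_mono ((tens_shortExact N P hS').δ (e + 2) (e + 1) rfl)).1 (hnat.symm.trans ?_)
    exact (congrArg _ h).trans (comp_zero.trans zero_comp.symm)

end Groth.Agent.H1ExtTor
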